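import Mathlib
import Groth.Prelude.Def_CAlg
import Groth.Agent.GrSegreLib.PosGr
import Groth.Agent.GorenBasic.RingOps
import Groth.Agent.S0341

/-! Linkage by a Gorenstein ideal: associated primes and the double annihilator. -/

set_option autoImplicit false
universe u

open IsLocalRing LocCoh

namespace Groth.Agent.LiaisonHelp

theorem isCohenMacaulayRing_of_gorenstein (A : Type u) [CommRing A] [h : IsGorensteinRing A] :
    IsCohenMacaulayRing A :=
  { h with
    isCohenMacaulayLocalRing_localization := fun p _ =>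
      haveI := h.isGorensteinLocalRing_localization p
      S0341.result (Localization.AtPrime p) }

variable {R : Type u} [CommRing R] [IsNoetherianRing R] (c : Ideal R)

/-- A prime minimal over `c` containing a witness for `x ∉ c`. -/
theorem exists_minimal_ge_colon [IsCohenMacaulayRing (R ⧸ c)] {x : R} (hx : x ∉ c) :
    ∃ p ∈ c.minimalPrimes, c.colon {x} ≤ p := by
  obtain ⟨Q, hQ, hann⟩ := exists_le_isAssociatedPrime_of_isNoetherianRing (R ⧸ c) (Ideal.Quotient.mk c x)
    (fun h => hx (Ideal.Quotient.eq_zero_iff_mem.1 h))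
  haveI : Q.IsPrime := IsAssociatedPrime.isPrime hQ
  refine ⟨Q.comap (Ideal.Quotient.mk c), ?_, fun r hr => ?_⟩
  · rw [Ideal.minimalPrimes_eq_comap]
    exact ⟨Q, Ideal.height_eq_zero_iff.1 (PosGr.height_eq_zero_of_mem_assPrimes hQ), rfl⟩
  · refine hann (Submodule.mem_colon_singleton.2 ((Submodule.mem_bot (R ⧸ c)).2 ?_))
    rw [smul_eq_mul, ← map_mul, Ideal.Quotient.eq_zero_iff_mem]
    exact Submodule.mem_colon_singleton.1 hr

/-- A prime minimal over an ideal is associated to the quotient. -/
theorem mem_assPrimes_of_minimal {I p : Ideal R} (hp : p ∈ I.minimalPrimes) :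
    p ∈ associatedPrimes R (R ⧸ I) := by
  have h := Module.associatedPrimes.minimalPrimes_annihilator_subset_associatedPrimes R (R ⧸ I)
  rw [Ideal.annihilator_quotient] at h
  exact h hp

omit [IsNoetherianRing R] in
/-- A prime containing `c` of the same finite height is minimal over it. -/
theorem minimal_of_height {n : ℕ} (hc : c.height = n) {p : Ideal R} [p.IsPrime] (hcp : c ≤ p)
    (hp : p.height = n) [IsNoetherianRing R] : p ∈ c.minimalPrimes :=
  Ideal.mem_minimalPrimes_of_height_le hcp (by rw [hc, hp])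

/-- The socle of a self-injective Artinian local ring detects elements modulo an ideal. -/
theorem mem_of_forall_ann {L : Type u} [CommRing L] [IsLocalRing L] [IsArtinianRing L]
    [Module.Injective L L] (I : Ideal L) {y : L} (h : ∀ a : L, (∀ i ∈ I, a * i = 0) → a * y = 0) : y ∈ I := by
  by_contra hy
  obtain ⟨s, hs0, hs⟩ := GorenBasic.exists_socle_ne_zero L
  let Mt := L ⧸ I
  let ybar : Mt := Ideal.Quotient.mk I y
  let f : L →ₗ[L] Mt := LinearMap.toSpanSingleton L Mt ybar
  let g : L →ₗ[L] L := LinearMap.toSpanSingleton L L s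
  have hker : LinearMap.ker f ≤ LinearMap.ker g := by
    intro r hr
    show r • s = 0
    refine hs r ((IsLocalRing.mem_maximalIdeal r).2 fun hu => hy ?_)
    have : r • ybar = 0 := hr
    rw [hu.smul_eq_zero] at this
    exact Ideal.Quotient.eq_zero_iff_mem.1 this
  let f' : (L ⧸ LinearMap.ker f) →ₗ[L] Mt := (LinearMap.ker f).liftQ f le_rfl
  have hf' : Function.Injective f' := by
    rw [← LinearMap.ker_eq_bot]; exact Submodule.ker_liftQ_eq_bot' _ _ rfl
  obtain ⟨φ, hφ⟩ := Module.Injective.extension_property L L (L ⧸ LinearMap.ker f) Mt f' hf'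
    ((LinearMap.ker f).liftQ g hker)
  have h1 : φ ybar = s := by
    have h2 := LinearMap.congr_fun hφ (Submodule.Quotient.mk (1 : L))
    change φ ((1 : L) • ybar) = (1 : L) • s at h2
    rwa [one_smul, one_smul] at h2
  apply hs0
  rw [← h1]
  have hy' : ybar = y • (Ideal.Quotient.mk I 1 : Mt) := by
    show _ = Ideal.Quotient.mk I (y * 1)
    rw [mul_one]
  rw [hy', map_smul, smul_eq_mul, mul_comm]
  refine h _ fun i hi => ?_
  rw [mul_comm, ← smul_eq_mul, ← map_smul]
  rw [show i • (Ideal.Quotient.mk I 1 : Mt) = 0 from Ideal.Quotient.eq_zero_iff_mem.2 (by simpa using hi), map_zero]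

/-- Double linkage at a minimal prime of `c`. -/
theorem exists_mul_mem_of_double_colon [hG : IsGorensteinRing (R ⧸ c)] {I : Ideal R} (hcI : c ≤ I)
    {p : Ideal R} [p.IsPrime] (hp : p ∈ c.minimalPrimes) {x : R}
    (hx : x ∈ c.colon ((c.colon (I : Set R) : Ideal R) : Set R)) : ∃ v ∉ p, v * x ∈ I := by
  classical
  rw [Ideal.minimalPrimes_eq_comap] at hp
  obtain ⟨P, hP, rfl⟩ := hp
  haveI : P.IsPrime := hP.1.1
  let q := Ideal.Quotient.mk c
  haveI := hG.isGorensteinLocalRing_localization P
  let L := Localization.AtPrime P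
  have hdim : ringKrullDim L = 0 := by
    rw [IsLocalization.AtPrime.ringKrullDim_eq_height P L, Ideal.height_eq_zero_iff.2 hP]; rfl
  haveI : Ring.KrullDimLE 0 L := Ring.krullDimLE_iff.2 hdim.le
  haveI : IsArtinianRing L := IsNoetherianRing.isArtinianRing_of_krullDimLE_zero
  haveI : Module.Injective L L := GorenSG.injective_of_gorenstein inferInstance hdim
  obtain ⟨t, ht⟩ := (IsNoetherian.noetherian I : I.FG)
  have hmem : algebraMap (R ⧸ c) L (q x) ∈ (I.map q).map (algebraMap (R ⧸ c) L) := by
    refine mem_of_forall_ann _ fun a ha => ?_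
    obtain ⟨r', ⟨s', hs'⟩, rfl⟩ := IsLocalization.exists_mk'_eq P.primeCompl a
    obtain ⟨r, rfl⟩ := Ideal.Quotient.mk_surjective r'
    obtain ⟨s, rfl⟩ := Ideal.Quotient.mk_surjective s'
    have hi : ∀ i ∈ I, ∃ u, q u ∉ P ∧ u * (r * i) ∈ c := by
      intro i hi
      have h0 := ha _ (Ideal.mem_map_of_mem _ (Ideal.mem_map_of_mem q hi))
      have h1 : algebraMap (R ⧸ c) L (q (r * i)) = 0 := by
        rw [map_mul, map_mul, ← IsLocalization.mk'_spec' L (q r) (⟨q s, hs'⟩ : P.primeCompl), mul_assoc,
          h0, mul_zero]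
      obtain ⟨⟨m, hm⟩, hmr⟩ := (IsLocalization.map_eq_zero_iff P.primeCompl L _).1 h1
      obtain ⟨u, rfl⟩ := Ideal.Quotient.mk_surjective m
      exact ⟨u, hm, Ideal.Quotient.eq_zero_iff_mem.1 (by rw [map_mul]; exact hmr)⟩
    choose! u hu using hi
    let U := ∏ i ∈ t, u i
    have hU : q U ∈ P.primeCompl := by
      rw [map_prod]
      exact Submonoid.prod_mem _ fun i hi => (hu i (ht ▸ Ideal.subset_span hi)).1
    have hcol : U * r ∈ c.colon (I : Set R) := by
      refine Submodule.mem_colon.2 fun i hi => ?_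
      rw [smul_eq_mul]
      rw [← ht] at hi
      induction hi using Submodule.span_induction with
      | mem i hi =>
        have h2 := c.mul_mem_left (∏ j ∈ t.erase i, u j) (hu i (ht ▸ Ideal.subset_span hi)).2
        rw [show U = u i * ∏ j ∈ t.erase i, u j from (Finset.mul_prod_erase t u hi).symm]
        convert h2 using 1
        ring
      | zero => rw [mul_zero]; exact c.zero_mem
      | add y z _ _ hy hz => rw [mul_add]; exact c.add_mem hy hz
      | smul k y _ hy => rw [smul_eq_mul, mul_left_comm]; exact c.mul_mem_left k hy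
    have hzero : x * (U * r) ∈ c := Submodule.mem_colon.1 hx _ hcol
    rw [IsLocalization.mk'_eq_mul_mk'_one, mul_assoc, mul_comm _ (algebraMap (R ⧸ c) L (q x)), ← mul_assoc,
      ← map_mul, ← map_mul]
    rw [show algebraMap (R ⧸ c) L (q (r * x)) = 0 from (IsLocalization.map_eq_zero_iff P.primeCompl L _).2
      ⟨⟨q U, hU⟩, by rw [← map_mul, Ideal.Quotient.eq_zero_iff_mem]; convert hzero using 1; ring⟩, zero_mul]
  rw [IsLocalization.algebraMap_mem_map_algebraMap_iff P.primeCompl L] at hmem
  obtain ⟨m, hm, hmx⟩ := hmem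
  obtain ⟨v, rfl⟩ := Ideal.Quotient.mk_surjective m
  refine ⟨v, hm, ?_⟩
  rw [← map_mul] at hmx
  have h2 : v * x ∈ (I.map q).comap q := hmx
  rwa [Ideal.comap_map_of_surjective _ Ideal.Quotient.mk_surjective, ← RingHom.ker_eq_comap_bot, Ideal.mk_ker,
    sup_of_le_left hcI] at h2

end Groth.Agent.LiaisonHelp
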