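import Mathlib
import Groth.Prelude.Def_CAlg
import Groth.Prelude.Def_GrSyz
import Groth.Agent.LiaisonHelp.Basic
import Groth.Agent.DimTheory.Algebra
import Groth.Agent.GrSyzLib.Std

/-! Minimal primes of a homogeneous Cohen–Macaulay quotient have equal height. -/

set_option autoImplicit false
universe u

open IsLocalRing LocCoh

namespace Groth.Agent.LiaisonHelp

/-- In a Cohen–Macaulay algebra of finite type, minimal primes inside one maximal ideal have equal coheight. -/
theorem dim_quotient_eq_height {K A : Type u} [Field K] [CommRing A] [Algebra K A] [Algebra.FiniteType K A]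
    [IsCohenMacaulayRing A] (M : Ideal A) [M.IsMaximal] {P : Ideal A} (hP : P ∈ minimalPrimes A) (hPM : P ≤ M) :
    ringKrullDim (A ⧸ P) = (M.height : WithBot ℕ∞) := by
  haveI := hP.1.1
  haveI := IsCohenMacaulayRing.isCohenMacaulayLocalRing_localization (R := A) M
  let L := Localization.AtPrime M
  let PL := P.map (algebraMap A L)
  have hdisj : Disjoint (M.primeCompl : Set A) P := Set.disjoint_left.2 fun a ha haP => ha (hPM haP)
  haveI : PL.IsPrime := IsLocalization.isPrime_of_isPrime_disjoint M.primeCompl L P hP.1.1 hdisj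
  have hcomap : PL.comap (algebraMap A L) = P :=
    IsLocalization.comap_map_of_isPrime_disjoint M.primeCompl L ‹P.IsPrime› hdisj
  have hmin : PL ∈ minimalPrimes L := by
    rw [← Ideal.height_eq_zero_iff, ← IsLocalization.height_under M.primeCompl]
    show (PL.comap (algebraMap A L)).height = 0
    rw [hcomap]
    exact Ideal.height_eq_zero_iff.2 hP
  have hass : PL ∈ associatedPrimes L L := by
    have h := Module.associatedPrimes.minimalPrimes_annihilator_subset_associatedPrimes L L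
    rw [Module.annihilator_eq_bot.2 inferInstance] at h
    exact h hmin
  have h1 := Depth.ringKrullDim_quotient_eq_of_mem_associatedPrimes (R := L) (M := L)
    Depth.isCohenMacaulayModule_self hass
  rw [Module.supportDim_self_eq_ringKrullDim, IsLocalization.AtPrime.ringKrullDim_eq_height M L] at h1
  rw [← h1]
  let q := Ideal.Quotient.mk P
  have hker : RingHom.ker q ≤ M := by rw [Ideal.mk_ker]; exact hPM
  haveI : (M.map q).IsMaximal := Ideal.IsMaximal.map_of_surjective_of_ker_le Ideal.Quotient.mk_surjective hker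
  have hc : (M.map q).comap q = M := by
    rw [Ideal.comap_map_of_surjective _ Ideal.Quotient.mk_surjective, ← RingHom.ker_eq_comap_bot]
    exact sup_eq_left.2 hker
  have hsub : Algebra.algebraMapSubmonoid (A ⧸ P) M.primeCompl = (M.map q).primeCompl := by
    ext z
    constructor
    · rintro ⟨x, hx, rfl⟩
      exact fun h => hx (hc ▸ h)
    · intro hz
      obtain ⟨x, rfl⟩ := Ideal.Quotient.mk_surjective z
      exact ⟨x, fun h => hz (Ideal.mem_map_of_mem q h), rfl⟩
  have : IsLocalization.AtPrime (L ⧸ PL) (M.map q) := by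
    rw [IsLocalization.AtPrime, ← hsub]
    infer_instance
  rw [IsLocalization.AtPrime.ringKrullDim_eq_height (M.map q) (L ⧸ PL)]
  haveI : Algebra.FiniteType K (A ⧸ P) := Algebra.FiniteType.trans (inferInstance : Algebra.FiniteType K A) inferInstance
  exact (DimTheory.height_maximal K (A := A ⧸ P) (M.map q)).symm

variable {K : Type u} [Field K] {n : ℕ} (c : Ideal (MvPolynomial (Fin (n + 1)) K))

local notation "𝔪" => (GrSyzLib.mm : Ideal (MvPolynomial (Fin (n + 1)) K))

theorem mm_isMaximal : (𝔪).IsMaximal := by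
  have : 𝔪 = RingHom.ker (MvPolynomial.constantCoeff : MvPolynomial (Fin (n + 1)) K →+* K) :=
    Ideal.ext fun p => GrSyzLib.mem_mm.trans RingHom.mem_ker.symm
  rw [this]
  exact RingHom.ker_isMaximal_of_surjective _ fun x => ⟨MvPolynomial.C x, MvPolynomial.constantCoeff_C _ x⟩

theorem minimalPrime_le_mm (hc : c.IsHomogeneous (GrSyz.stdGr K (Fin (n + 1))))
    {p : Ideal (MvPolynomial (Fin (n + 1)) K)} (hp : p ∈ c.minimalPrimes) : p ≤ 𝔪 := by
  classical
  haveI := hp.1.1
  intro a ha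
  have hhom : p.IsHomogeneous (GrSyz.stdGr K (Fin (n + 1))) := by
    have he : (p.homogeneousCore (GrSyz.stdGr K (Fin (n + 1)))).toIdeal = p :=
      le_antisymm (Ideal.toIdeal_homogeneousCore_le _ p)
        (hp.2 ⟨Ideal.IsPrime.homogeneousCore inferInstance, by
          rw [← Ideal.IsHomogeneous.toIdeal_homogeneousCore_eq_self hc]
          exact Ideal.homogeneousCore_mono _ hp.1.2⟩ (Ideal.toIdeal_homogeneousCore_le _ p))
    exact he ▸ (p.homogeneousCore _).isHomogeneous
  rw [GrSyzLib.mem_mm]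
  by_contra hne
  have h0 : GrSyzLib.pr (GrSyz.stdGr K (Fin (n + 1))) 0 a ∈ p := hhom 0 ha
  rw [GrSyzLib.pr_zero_eq] at h0
  exact hp.1.1.ne_top (Ideal.eq_top_of_isUnit_mem p h0 ((isUnit_iff_ne_zero.2 hne).map MvPolynomial.C))

/-- All minimal primes have the height of the ideal. -/
theorem height_minimalPrime [IsCohenMacaulayRing (MvPolynomial (Fin (n + 1)) K ⧸ c)]
    (hc : c.IsHomogeneous (GrSyz.stdGr K (Fin (n + 1)))) {p : Ideal (MvPolynomial (Fin (n + 1)) K)}
    (hp : p ∈ c.minimalPrimes) : p.height = c.height := by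
  have key : ∀ p₁ p₂, p₁ ∈ c.minimalPrimes → p₂ ∈ c.minimalPrimes → p₁.height = p₂.height := by
    intro p₁ p₂ h₁ h₂
    haveI := h₁.1.1
    haveI := h₂.1.1
    let q := Ideal.Quotient.mk c
    have hdim : ∀ p : Ideal (MvPolynomial (Fin (n + 1)) K), p ∈ c.minimalPrimes →
        ringKrullDim (MvPolynomial (Fin (n + 1)) K ⧸ p) = (((𝔪).map q).height : WithBot ℕ∞) := by
      intro p hp
      have hle := minimalPrime_le_mm c hc hp
      haveI := mm_isMaximal (K := K) (n := n)
      have hker : RingHom.ker q ≤ 𝔪 := by rw [Ideal.mk_ker]; exact hp.1.2.trans hle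
      haveI : ((𝔪).map q).IsMaximal := Ideal.IsMaximal.map_of_surjective_of_ker_le Ideal.Quotient.mk_surjective hker
      have hp' := hp
      rw [Ideal.minimalPrimes_eq_comap] at hp'
      obtain ⟨P, hP, rfl⟩ := hp'
      rw [← dim_quotient_eq_height (K := K) ((𝔪).map q) hP (by
        rw [← Ideal.map_comap_of_surjective q Ideal.Quotient.mk_surjective P]
        exact Ideal.map_mono hle)]
      exact ringKrullDim_eq_of_ringEquiv (RingEquiv.ofBijective (Ideal.quotientMap P q (le_refl (P.comap q)))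
        ⟨Ideal.quotientMap_injective, Ideal.quotientMap_surjective Ideal.Quotient.mk_surjective⟩)
    have e₁ := DimTheory.height_add_ringKrullDim_quotient' K (A := MvPolynomial (Fin (n + 1)) K) p₁
    have e₂ := DimTheory.height_add_ringKrullDim_quotient' K (A := MvPolynomial (Fin (n + 1)) K) p₂
    rw [hdim p₁ h₁] at e₁
    rw [hdim p₂ h₂, ← e₁] at e₂
    have hfin : ((𝔪).map q).height ≠ ⊤ := by
      intro htop
      rw [htop, DimTheory.ringKrullDim_mvPolynomial_fin] at e₁
      rw [← WithBot.coe_add, top_add] at e₁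
      exact absurd (WithBot.coe_inj.1 e₁) (ENat.top_ne_natCast _)
    rw [← WithBot.coe_add, ← WithBot.coe_add, WithBot.coe_inj] at e₂
    exact ((ENat.add_right_injective_of_ne_top hfin) e₂).symm
  rw [Ideal.height_eq_inf_minimalPrimes c]
  exact le_antisymm (le_iInf₂ fun J hJ => (key p J hp hJ).le) (iInf₂_le p hp)

end Groth.Agent.LiaisonHelp

namespace Groth.Agent.LiaisonHelp

variable {K : Type u} [Field K] {n : ℕ} {J : Ideal (MvPolynomial (Fin (n + 1)) K)}
  {f : MvPolynomial (Fin (n + 1)) K}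

/-- A regular element modulo `J` lies in no minimal prime of `J`. -/
theorem notMem_of_colon_eq (hJf : J.colon {f} = J) {q : Ideal (MvPolynomial (Fin (n + 1)) K)}
    (hq : q ∈ J.minimalPrimes) : f ∉ q := by
  intro hfq
  obtain ⟨hqp, y, hy⟩ := isAssociatedPrime_iff.1 (mem_assPrimes_of_minimal hq)
  obtain ⟨z, rfl⟩ := Ideal.Quotient.mk_surjective y
  rw [hy, Submodule.mem_colon_singleton, Submodule.mem_bot, ← Ideal.Quotient.mkₐ_eq_mk (MvPolynomial (Fin (n + 1)) K),
    ← map_smul, Ideal.Quotient.mkₐ_eq_mk, Ideal.Quotient.eq_zero_iff_mem, smul_eq_mul, mul_comm] at hfq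
  have hz : z ∈ J := by rw [← hJf]; exact Submodule.mem_colon_singleton.2 hfq
  apply hqp.ne_top
  rw [hy, Ideal.Quotient.eq_zero_iff_mem.2 hz]
  exact (Ideal.eq_top_iff_one _).2 (by simp)

/-- A prime over `J` and the regular `f` has height above `J`. -/
theorem succ_le_height (hJ : J.IsHomogeneous (GrSyz.stdGr K (Fin (n + 1))))
    [IsCohenMacaulayRing (MvPolynomial (Fin (n + 1)) K ⧸ J)] {h : ℕ} (hJh : J.height = h)
    (hJf : J.colon {f} = J) {p : Ideal (MvPolynomial (Fin (n + 1)) K)} [p.IsPrime] (hJp : J ≤ p) (hfp : f ∈ p) :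
    (h : ℕ∞) + 1 ≤ p.height := by
  obtain ⟨q, hq, hqp⟩ := Ideal.exists_minimalPrimes_le (I := J) (J := p) hJp
  haveI := hq.1.1
  have hlt : q < p := lt_of_le_of_ne hqp fun e => notMem_of_colon_eq hJf hq (e ▸ hfp)
  rw [← hJh, ← height_minimalPrime J hJ hq]
  exact Order.add_one_le_of_lt (Ideal.height_strict_mono_of_isPrime hlt)

/-- Cutting by a regular form raises all heights by one. -/
theorem height_eq_of_assPrime_sup (hJ : J.IsHomogeneous (GrSyz.stdGr K (Fin (n + 1))))
    [IsCohenMacaulayRing (MvPolynomial (Fin (n + 1)) K ⧸ J)] {h : ℕ} (hJh : J.height = h)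
    {d : ℕ} (hf : f ∈ GrSyz.stdGr K (Fin (n + 1)) (d : ℤ)) (hJf : J.colon {f} = J)
    {p : Ideal (MvPolynomial (Fin (n + 1)) K)}
    (hp : p ∈ associatedPrimes (MvPolynomial (Fin (n + 1)) K) (MvPolynomial (Fin (n + 1)) K ⧸ (J ⊔ Ideal.span {f}))) :
    p.height = h + 1 := by
  let R := MvPolynomial (Fin (n + 1)) K
  let q := Ideal.Quotient.mk J
  have hreg : IsSMulRegular (R ⧸ J) (q f) := by
    intro a b hab
    obtain ⟨a, rfl⟩ := Ideal.Quotient.mk_surjective a
    obtain ⟨b, rfl⟩ := Ideal.Quotient.mk_surjective b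
    have hab' : q f * q a = q f * q b := hab
    rw [← map_mul, ← map_mul, Ideal.Quotient.eq, ← mul_sub, mul_comm] at hab'
    rw [Ideal.Quotient.eq, ← hJf]
    exact Submodule.mem_colon_singleton.2 hab'
  haveI : IsCohenMacaulayRing (R ⧸ (J ⊔ Ideal.span {f})) := by
    haveI := GrassLib.isCohenMacaulayRing_quotient_span (q f) hreg
    haveI : IsCohenMacaulayRing ((R ⧸ J) ⧸ (Ideal.span {f}).map q) := by
      rw [Ideal.map_span, Set.image_singleton]; infer_instance
    exact GrassLib.isCohenMacaulayRing_of_ringEquiv (A := (R ⧸ J) ⧸ (Ideal.span {f}).map q) (DoubleQuot.quotQuotEquivQuotSup J (Ideal.span {f}))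
  have hK : (J ⊔ Ideal.span {f}).IsHomogeneous (GrSyz.stdGr K (Fin (n + 1))) :=
    hJ.sup (Ideal.homogeneous_span _ _ fun x hx => ⟨(d : ℤ), by rw [Set.mem_singleton_iff.1 hx]; exact hf⟩)
  obtain ⟨hpp, y, hy⟩ := isAssociatedPrime_iff.1 hp
  obtain ⟨z, rfl⟩ := Ideal.Quotient.mk_surjective y
  have hpz : ∀ r, r ∈ p ↔ r * z ∈ J ⊔ Ideal.span {f} := fun r => by
    rw [hy, Submodule.mem_colon_singleton, Submodule.mem_bot, ← Ideal.Quotient.mkₐ_eq_mk (MvPolynomial (Fin (n + 1)) K),
      ← map_smul, Ideal.Quotient.mkₐ_eq_mk, Ideal.Quotient.eq_zero_iff_mem, smul_eq_mul]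
  have hKp : J ⊔ Ideal.span {f} ≤ p := fun a ha => (hpz a).2 (Ideal.mul_mem_right _ _ ha)
  have hfp : f ∈ p := hKp (Ideal.mem_sup_right (Ideal.mem_span_singleton_self f))
  refine le_antisymm ?_ (succ_le_height hJ hJh hJf (le_sup_left.trans hKp) hfp)
  have hz : z ∉ J ⊔ Ideal.span {f} := fun hzK => hpp.ne_top ((Ideal.eq_top_iff_one p).2 ((hpz 1).2 (by rwa [one_mul])))
  obtain ⟨P, hP, hle⟩ := exists_minimal_ge_colon (J ⊔ Ideal.span {f}) hz
  have hpP : p ≤ P := fun r hr => hle (Submodule.mem_colon_singleton.2 ((hpz r).1 hr))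
  refine (Ideal.height_mono hpP).trans ?_
  rw [height_minimalPrime _ hK hP]
  have hfm : f ∈ (GrSyzLib.mm : Ideal R) := minimalPrime_le_mm _ hK hP (hpP hfp)
  haveI := hP.1.1
  obtain ⟨q₀, hq₀, -⟩ := Ideal.exists_minimalPrimes_le (I := J) (J := P) ((le_sup_left.trans hKp).trans hpP)
  haveI := hq₀.1.1
  have hq₀m : q₀ ⊔ Ideal.span {f} ≤ (GrSyzLib.mm : Ideal R) :=
    sup_le (minimalPrime_le_mm J hJ hq₀) ((Ideal.span_singleton_le_iff_mem _).2 hfm)
  haveI := (mm_isMaximal (K := K) (n := n)).isPrime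
  obtain ⟨p', hp', -⟩ := Ideal.exists_minimalPrimes_le (I := q₀ ⊔ Ideal.span {f}) (J := (GrSyzLib.mm : Ideal R)) hq₀m
  haveI := hp'.1.1
  have hq₀p' : q₀ ≤ p' := le_sup_left.trans hp'.1.2
  refine (Ideal.height_mono (sup_le (hq₀.1.2.trans hq₀p') (le_sup_right.trans hp'.1.2))).trans ?_
  have h1 := Ideal.map_height_le_one_of_mem_minimalPrimes hp'
  have hker : RingHom.ker (Ideal.Quotient.mk q₀) ≤ p' := by rw [Ideal.mk_ker]; exact hq₀p'
  haveI : (p'.map (Ideal.Quotient.mk q₀)).IsPrime := Ideal.map_isPrime_of_surjective Ideal.Quotient.mk_surjective hker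
  haveI : Algebra.FiniteType K (R ⧸ q₀) := Algebra.FiniteType.trans (inferInstance : Algebra.FiniteType K R) inferInstance
  have e1 := DimTheory.height_add_ringKrullDim_quotient' K (A := R) p'
  have e2 := DimTheory.height_add_ringKrullDim_quotient' K (A := R) q₀
  have e3 := DimTheory.height_add_ringKrullDim_quotient' K (A := R ⧸ q₀) (p'.map (Ideal.Quotient.mk q₀))
  rw [ringKrullDim_eq_of_ringEquiv (DoubleQuot.quotQuotEquivQuotOfLE hq₀p')] at e3
  rw [height_minimalPrime J hJ hq₀, hJh] at e2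
  rw [DimTheory.ringKrullDim_mvPolynomial_fin] at e1 e2
  rw [← e3] at e2
  obtain ⟨s, hs⟩ := DimTheory.exists_ringKrullDim_eq K (A := R ⧸ p')
  rw [hs] at e1 e2
  obtain ⟨u, hu⟩ := ENat.ne_top_iff_exists.1 (ne_top_of_le_ne_top (by simp) h1)
  obtain ⟨w, hw⟩ := ENat.ne_top_iff_exists.1 (Ideal.height_ne_top_of_isPrime (I := p'))
  rw [← hw] at e1 ⊢
  rw [← hu] at e2 h1
  have e1' : s + w = n + 1 := by exact_mod_cast e1
  have e2' : s + u + h = n + 1 := by exact_mod_cast e2
  have hu1 : u ≤ 1 := by exact_mod_cast h1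
  exact_mod_cast (show w ≤ h + 1 by omega)

end Groth.Agent.LiaisonHelp
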